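import Mathlib
import Cfsg.Agent.Base
import Cfsg.Agent.Lib.Nsp.A
import Cfsg.Agent.Lib.Fpf.D2

/-! Anticentral elements acting on a group: definitions. -/

set_option autoImplicit false
set_option linter.unusedSectionVars false
set_option linter.style.haveILetI false

namespace H2.AC

open Subgroup H69 H68B Cfsg H42.FP
open scoped commutatorElement

universe u

/-- every element of the coset `a Γ'` is conjugate to `a` -/
def Ant {Γ : Type*} [Group Γ] (a : Γ) : Prop := ∀ c ∈ commutator Γ, ∃ g, g * a * g⁻¹ = a * c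

/-- the operators come from a group with an anticentral element whose derived group induces all
inner automorphisms -/
def AC {A : Type*} {G : Type u} [Group A] [Group G] (φ : A →* MulAut G) : Prop :=
  ∃ (Γ : Type u) (_ : Group Γ) (_ : Finite Γ) (θ : Γ →* MulAut G) (a : Γ), Ant a ∧
    (∀ x : G, ∃ c ∈ commutator Γ, θ c = MulAut.conj x) ∧ ∀ g, ∃ α x, θ g = MulAut.conj x * φ α

variable {A G : Type*} [Group A] [Group G]

/-- operators `A` on the module `V` for `X` -/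
structure M2 (V X A : Subgroup G) : Prop extends H50.NS.M0 V X where
  nV : A ≤ 𝐍(V)
  nA : A ≤ 𝐍(X)
  n1 : ∀ v ∈ V, (∀ a ∈ A, ∃ g ∈ X, g * a * v * (g * a)⁻¹ = v) → ∀ p : ℕ, p.Prime → p ≠ 2 →
    ∀ Z ≤ X, X ≤ 𝐍(Z) → IsPGroup p Z → v ∈ 𝐂(Z)
  der : X ≤ ⁅X ⊔ A, X ⊔ A⁆

/-- `Fd` with movers normalizing `Γ` and a mover of odd prime order -/
structure Fe (Γ K : Set G) (R : Subgroup G) : Prop extends Fd Γ K R where
  nrm : ∀ k ∈ K, ∀ z ∈ Γ, k * z * k⁻¹ ∈ Γ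
  mv : ∃ p : ℕ, p.Prime ∧ p ≠ 2 ∧ ∃ k ∈ K, ∀ z ∈ Γ, Commute (k ^ p) z ∧ ⁅z, k⁆ ∉ centralizer K

/-- an element of `Z / L` with invariant class centralizes a Sylow subgroup for each odd prime -/
def CE (φ : A →* MulAut G) : Prop := ∀ N Z L : Subgroup G, Iv φ N → Iv φ L → N ≤ 𝐍(L) →
  N ≤ 𝐍(Z) → L ≤ Z → IsPGroup 2 Z → ∀ x ∈ Z, (∀ a, ∃ g ∈ N, x⁻¹ * (g * φ a x * g⁻¹) ∈ L) →
  ∀ p : ℕ, p.Prime → p ≠ 2 → ∀ R ≤ N, IsPGroup p R → ∃ n ∈ N, ∀ k ∈ R, ⁅n * x * n⁻¹, k⁆ ∈ L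

/-- involutions of `S` act as even permutations on the orbits of the operators -/
def SG (φ : A →* MulAut G) (S : Subgroup G) : Prop := ∀ y ∈ S, y * y = 1 → ∀ u : G,
  {v | (∃ a, φ a u = v) ∧ ¬ Commute y v}.ncard % 4 ≠ 2

/-- the local data at a Sylow 2-subgroup -/
structure Dat3 (φ : A →* MulAut G) (S : Subgroup G) : Prop where
  inv : Iv φ S
  hs : ∀ X ≤ S, X ≠ ⊥ → S ≤ 𝐍(X) → Iv φ X → ∀ g ∈ 𝐍(X), ∃ m ∈ 𝐍(ww S), ∀ p ∈ S,
    g * p * g⁻¹ ∈ S → g * p * g⁻¹ = m * p * m⁻¹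
  vg : VG (ww S) S
  ce : CE φ
  sg : SG φ S
  inn : ∀ s ∈ S, ∃ a, φ a = MulAut.conj s

variable [Finite G] {φ : A →* MulAut G} {S C X : Subgroup G}

theorem Dat3.le_Mh (d : Dat3 φ S) (hC : C ≤ S) (h1 : X ≤ S) (h2 : X ≠ ⊥) (h3 : S ≤ 𝐍(X))
    (h4 : Iv φ X) : 𝐍(X) ⊓ 𝐍(C) ≤ Mh S C := fun g hg => by
  obtain ⟨m, hm, e⟩ := d.hs X h1 h2 h3 h4 g hg.1
  exact ⟨hg.2, m, hm, fun x hx => e x (hC hx) (hC (conj_mem_of_mem_normalizer hg.2 hx))⟩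

theorem Dat3.oc_le_Mh (d : Dat3 φ S) (hS : IsPGroup 2 S) (hC : C ≤ S) :
    𝐍(omegaOneCenter 2 S) ⊓ 𝐍(C) ≤ Mh S C := by
  by_cases e : S = ⊥
  · rw [le_bot_iff.1 (hC.trans e.le)]
    exact le_top.trans (centralizer_bot.ge.trans cent_le_Mh)
  · exact d.le_Mh hC (oc_le S) (H24.omegaOne_center_ne_bot hS e) (le_normalizer_oc le_normalizer)
      d.inv.oc

end H2.AC
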