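import Mathlib
import Cfsg.Agent.Base
import Cfsg.Agent.Lib.AC.Defs
import Cfsg.Agent.Lib.BG5.Rank
import Cfsg.Agent.Lib.Fpf.P2

/-! Anticentral elements: supplements of the derived group and the inherited properties. -/

set_option autoImplicit false
set_option linter.unusedSectionVars false
set_option linter.style.haveILetI false

namespace H2.AC

open Subgroup H69 H68B Cfsg H42.FP
open H42.FP.P2 (card_inf_mul)
open H2 (subAut quotAut)
open scoped commutatorElement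

universe u

section
variable {Γ : Type*} [Group Γ] [Finite Γ] {a b c : Γ} {M : Subgroup Γ}

/-- a supplement of the derived group -/
def Sp (M : Subgroup Γ) : Prop := ∀ g, ∃ m ∈ M, g⁻¹ * m ∈ commutator Γ

theorem Ant.cong (h : Ant a) (hb : a⁻¹ * b ∈ commutator Γ) : Ant b := fun c hc => by
  obtain ⟨g, e⟩ := h _ hb
  obtain ⟨k, e'⟩ := h _ (mul_mem hb hc)
  rw [mul_inv_cancel_left] at e
  rw [← mul_assoc, mul_inv_cancel_left] at e'
  exact ⟨k * g⁻¹, by rw [← e', ← e]; group⟩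

theorem Ant.count (h : Ant b) (hM : Sp M) (hb : b ∈ M) :
    centralizer {b} ≤ M ∧ ∀ c ∈ commutator Γ, c ∈ M → ∃ m ∈ M, m * b * m⁻¹ = b * c := by
  have nc : ∀ K : Subgroup Γ, ((fun x => b * x) '' (K : Set Γ)).ncard = Nat.card K := fun K => by
    rw [Set.ncard_image_of_injective _ (mul_right_injective b), ← Nat.card_coe_set_eq]; rfl
  have e1 : Nat.card (commutator Γ) ≤ (centralizer {b}).index := by
    rw [← relIndex_top_right, H49.relIndex_centralizer_eq_ncard, ← nc]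
    refine Set.ncard_le_ncard ?_ (Set.toFinite _)
    rintro _ ⟨c, hc, rfl⟩
    obtain ⟨g, e⟩ := h c hc
    exact ⟨g, mem_top g, e⟩
  have s2 : {y | ∃ w ∈ M, w * b * w⁻¹ = y} ⊆ (fun x => b * x) '' (M ⊓ commutator Γ : Subgroup Γ) := by
    rintro _ ⟨w, hw, rfl⟩
    refine ⟨⁅b⁻¹, w⁆, ⟨M.mul_mem (M.mul_mem (M.mul_mem (M.inv_mem hb) hw) (M.inv_mem (M.inv_mem hb))) (M.inv_mem hw),
      commutator_mem_commutator (mem_top _) (mem_top _)⟩, ?_⟩
    simp only [commutatorElement_def]; group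
  have e2 := Set.ncard_le_ncard s2 (Set.toFinite _)
  have e3 : (commutator Γ).relIndex M = (commutator Γ).index := by
    rw [← relIndex_sup_right, ← relIndex_top_right]
    congr 1
    refine top_le_iff.1 fun g _ => ?_
    obtain ⟨m, hm, e⟩ := hM g
    simpa using mul_mem (mem_sup_left hm) (mem_sup_right (inv_mem e))
  have c1 := card_inf_mul M (centralizer {b})
  have c2 := card_inf_mul M (commutator Γ)
  have c3 := (centralizer {b}).card_mul_index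
  have c4 := (commutator Γ).card_mul_index
  have c5 : Nat.card (M ⊓ centralizer {b} : Subgroup Γ) ≤ Nat.card (centralizer {b}) := card_le_of_le inf_le_right
  rw [H49.relIndex_centralizer_eq_ncard] at c1
  rw [nc] at e2
  rw [e3] at c2
  have p1 : 0 < (centralizer {b}).index := Nat.pos_of_ne_zero index_ne_zero_of_finite
  have p2 : 0 < (commutator Γ).index := Nat.pos_of_ne_zero index_ne_zero_of_finite
  have p3 : 0 < Nat.card (M ⊓ commutator Γ : Subgroup Γ) := Nat.card_pos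
  have c6 : Nat.card (centralizer {b}) ≤ (commutator Γ).index :=
    Nat.le_of_mul_le_mul_right (c := (centralizer {b}).index) (by nlinarith) p1
  refine ⟨fun x hx => ((eq_of_le_of_card_ge inf_le_right ?_).ge hx).1, fun c h1 h2 =>
    (Set.eq_of_subset_of_ncard_le s2 ?_ (Set.toFinite _)).ge ⟨c, ⟨h2, h1⟩, rfl⟩⟩
  · exact c6.trans (Nat.le_of_mul_le_mul_right (by nlinarith) p3)
  · rw [nc]
    exact Nat.le_of_mul_le_mul_right (by nlinarith) p2

theorem Ant.uc (h : Ant b) (hM : Sp M) (hb : b ∈ M) (hc : c * b * c⁻¹ ∈ M) : c ∈ M := by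
  obtain ⟨m, hm, e⟩ := (h.count hM hb).2 ⁅b⁻¹, c⁆ (commutator_mem_commutator (mem_top _) (mem_top _))
    (by simpa [commutatorElement_def, mul_assoc] using mul_mem (inv_mem hb) hc)
  refine (mul_mem_cancel_left (inv_mem hm)).1 ((h.count hM hb).1 (mem_centralizer_singleton_iff.2 ?_))
  calc m⁻¹ * c * b = m⁻¹ * (b * ⁅b⁻¹, c⁆) * c := by rw [commutatorElement_def]; group
    _ = _ := by rw [← e]; group

theorem Ant.der (h : Ant a) (hM : Sp M) (h1 : c ∈ commutator Γ) (h2 : c ∈ M) :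
    (⟨c, h2⟩ : M) ∈ commutator M := by
  obtain ⟨b, hb, e⟩ := hM a
  obtain ⟨m, hm, e1⟩ := ((h.cong e).count hM hb).2 c h1 h2
  have : (⟨c, h2⟩ : M) = ⁅(⟨b, hb⟩ : M)⁻¹, ⟨m, hm⟩⁆ := Subtype.ext (by
    change c = b⁻¹ * m * b⁻¹⁻¹ * m⁻¹
    rw [← inv_mul_cancel_left b c, ← e1]; group)
  rw [this]
  exact commutator_mem_commutator (mem_top _) (mem_top _)

theorem Ant.sub (h : Ant b) (hM : Sp M) (hb : b ∈ M) : Ant (⟨b, hb⟩ : M) := fun c hc => by
  have h1 : (c : Γ) ∈ commutator Γ := by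
    have := mem_map_of_mem M.subtype hc
    rw [commutator_def, map_commutator] at this
    exact commutator_mono le_top le_top this
  obtain ⟨m, hm, e⟩ := (h.count hM hb).2 c h1 c.2
  exact ⟨⟨m, hm⟩, Subtype.ext e⟩

end

section
variable {A G Γ : Type*} [Group A] [Group G] [Group Γ] {φ : A →* MulAut G} {θ : Γ →* MulAut G} {a : Γ}
  {N L : Subgroup G}

/-- the unpacked form of `AC` -/
structure Dt (φ : A →* MulAut G) (θ : Γ →* MulAut G) (a : Γ) : Prop where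
  ant : Ant a
  inn : ∀ x : G, ∃ c ∈ commutator Γ, ∀ y, θ c y = x * y * x⁻¹
  op : ∀ g, ∃ α x, ∀ y, θ g y = x * φ α y * x⁻¹

theorem Dt.adj (d : Dt φ θ a) (g : Γ) :
    ∃ α, ∀ n : G, ∃ m, (∀ y, θ m y = n * φ α y * n⁻¹) ∧ g⁻¹ * m ∈ commutator Γ := by
  obtain ⟨α, x, e⟩ := d.op g
  refine ⟨α, fun n => ?_⟩
  obtain ⟨c, hc, e1⟩ := d.inn (n * x⁻¹)
  refine ⟨c * g, fun y => by rw [map_mul, MulAut.mul_apply, e1, e]; group, ?_⟩
  simpa [mul_assoc] using (inferInstance : (commutator Γ).Normal).conj_mem _ hc g⁻¹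

/-- the elements acting as an operator times conjugation by an element of `N` -/
def G1 (φ : A →* MulAut G) (θ : Γ →* MulAut G) (N : Subgroup G) (hN : Iv φ N) : Subgroup Γ where
  carrier := {g | ∃ α, ∃ n ∈ N, ∀ y, θ g y = n * φ α y * n⁻¹}
  one_mem' := ⟨1, 1, one_mem _, by simp⟩
  mul_mem' := by
    rintro g k ⟨α, n, hn, e⟩ ⟨β, m, hm, e'⟩
    exact ⟨α * β, n * φ α m, mul_mem hn (hN α m hm), fun y => by simp [e, e', mul_assoc]⟩
  inv_mem' := by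
    rintro g ⟨α, n, hn, e⟩
    refine ⟨α⁻¹, φ α⁻¹ n⁻¹, hN _ _ (inv_mem hn), fun y => (θ g).injective ?_⟩
    rw [e (_ * _)]
    simp [mul_assoc]

theorem Dt.sp (d : Dt φ θ a) (hN : Iv φ N) : Sp (G1 φ θ N hN) := fun g => by
  obtain ⟨α, h⟩ := d.adj g
  obtain ⟨m, e, hm⟩ := h 1
  exact ⟨m, ⟨α, 1, one_mem _, e⟩, hm⟩

theorem G1.iv (hN : Iv φ N) (hL : Iv φ L) (h : N ≤ 𝐍(L)) : Iv (θ.comp (G1 φ θ N hN).subtype) L := by
  rintro ⟨g, α, n, hn, e⟩ x hx
  exact (e x).symm ▸ conj_mem_of_mem_normalizer (h hn) (hL α x hx)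

end

variable {A : Type*} {G : Type u} [Group A] [Group G] {φ : A →* MulAut G}

theorem AC.dt (h : AC φ) : ∃ (Γ : Type u) (_ : Group Γ) (_ : Finite Γ) (θ : Γ →* MulAut G) (a : Γ),
    Dt φ θ a := by
  obtain ⟨Γ, _, _, θ, a, h1, h2, h3⟩ := h
  refine ⟨Γ, _, inferInstance, θ, a, h1, fun x => ?_, fun g => ?_⟩
  · obtain ⟨c, hc, e⟩ := h2 x
    exact ⟨c, hc, fun y => by rw [e]; rfl⟩
  · obtain ⟨α, x, e⟩ := h3 g
    exact ⟨α, x, fun y => by rw [e]; rfl⟩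

theorem Dt.ac {Γ : Type u} [Group Γ] [Finite Γ] {θ : Γ →* MulAut G} {a : Γ} (d : Dt φ θ a) : AC φ :=
  ⟨Γ, _, inferInstance, θ, a, d.ant, fun x => (d.inn x).imp fun _ h => ⟨h.1, MulEquiv.ext h.2⟩,
    fun g => (d.op g).imp fun _ h => h.imp fun _ e => MulEquiv.ext e⟩

theorem AC.sub (h : AC φ) {N : Subgroup G} (hN : Iv φ N) : AC (subAut φ N hN) := by
  obtain ⟨Γ, _, _, θ, a, d⟩ := h.dt
  obtain ⟨b, hb, e⟩ := d.sp hN a
  refine Dt.ac (θ := subAut _ N (G1.iv (θ := θ) hN hN le_normalizer)) (a := ⟨b, hb⟩)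
    ⟨(d.ant.cong e).sub (d.sp hN) hb, fun x => ?_, ?_⟩
  · obtain ⟨c, hc, e1⟩ := d.inn x
    exact ⟨⟨c, 1, x, x.2, by simpa using e1⟩, d.ant.der (d.sp hN) hc _, fun y => Subtype.ext (e1 y)⟩
  · rintro ⟨g, α, n, hn, e⟩
    exact ⟨α, ⟨n, hn⟩, fun y => Subtype.ext (e y)⟩

theorem AC.quot (h : AC φ) {N : Subgroup G} [hn : N.Normal] (hN : Iv φ N) : AC (quotAut φ N hN) := by
  obtain ⟨Γ, _, _, θ, a, d⟩ := h.dt
  refine Dt.ac (θ := quotAut θ N fun g x hx => ?_) (a := a) ⟨d.ant, fun x => ?_, fun g => ?_⟩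
  · obtain ⟨α, y, e⟩ := d.op g
    exact e x ▸ hn.conj_mem _ (hN α x hx) y
  · obtain ⟨x, rfl⟩ := QuotientGroup.mk_surjective x
    obtain ⟨c, hc, e⟩ := d.inn x
    refine ⟨c, hc, fun y => ?_⟩
    obtain ⟨y, rfl⟩ := QuotientGroup.mk_surjective y
    exact congrArg QuotientGroup.mk (e y)
  · obtain ⟨α, x, e⟩ := d.op g
    refine ⟨α, x, fun y => ?_⟩
    obtain ⟨y, rfl⟩ := QuotientGroup.mk_surjective y
    exact congrArg QuotientGroup.mk (e y)

theorem AC.conj (h : AC φ) (σ : MulAut G) : AC ((MulAut.conj σ).toMonoidHom.comp φ) := by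
  obtain ⟨Γ, _, _, θ, a, d⟩ := h.dt
  refine Dt.ac (θ := (MulAut.conj σ).toMonoidHom.comp θ) (a := a) ⟨d.ant, fun x => ?_, fun g => ?_⟩
  · obtain ⟨c, hc, e⟩ := d.inn (σ⁻¹ x)
    exact ⟨c, hc, fun y => by simp [e]⟩
  · obtain ⟨α, x, e⟩ := d.op g
    exact ⟨α, σ x, fun y => by simp [e]⟩

theorem AC.twist (h : AC φ) {B : Type*} [Group B] {ψ : B →* MulAut G}
    (e : ∀ a, ∃ b g, ∀ x, ψ b x = g * φ a x * g⁻¹) : AC ψ := by
  obtain ⟨Γ, _, _, θ, a, d⟩ := h.dt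
  refine Dt.ac (θ := θ) (a := a) ⟨d.ant, d.inn, fun g => ?_⟩
  obtain ⟨α, x, e1⟩ := d.op g
  obtain ⟨b, k, e2⟩ := e α
  exact ⟨b, x * k⁻¹, fun y => by rw [e1, e2]; group⟩

theorem AC.der (h : AC φ) {N U : Subgroup G} (hN : Iv φ N) (hU : Iv φ U) (hn : N ≤ 𝐍(U))
    {Y : Subgroup (MulAut U)} (h1 : ∀ n : N, U.normalizerMonoidHom (inclusion hn n) ∈ Y)
    (h2 : ∀ a, subAut φ U hU a ∈ Y) (n : N) : U.normalizerMonoidHom (inclusion hn n) ∈ ⁅Y, Y⁆ := by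
  obtain ⟨Γ, _, _, θ, a, d⟩ := h.dt
  obtain ⟨c, hc, e1⟩ := d.inn n
  have h3 := mem_map_of_mem (subAut _ U (G1.iv (θ := θ) hN hU hn))
    (d.ant.der (d.sp hN) hc ⟨1, n, n.2, by simpa using e1⟩)
  rw [commutator_def, map_commutator] at h3
  have h4 : (⊤ : Subgroup _).map (subAut _ U (G1.iv (θ := θ) hN hU hn)) ≤ Y := by
    rintro _ ⟨⟨g, α, m, hm, e⟩, -, rfl⟩
    convert mul_mem (h1 ⟨m, hm⟩) (h2 α) using 1
    exact MulEquiv.ext fun y => Subtype.ext (e y)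
  convert commutator_mono h4 h4 h3 using 1
  exact MulEquiv.ext fun y => Subtype.ext (e1 y).symm

variable [Finite G]

/-- the stabilizer of a subgroup -/
def Sb {Γ : Type*} [Group Γ] (θ : Γ →* MulAut G) (K : Subgroup G) : Subgroup Γ where
  carrier := {g | ∀ y ∈ K, θ g y ∈ K}
  one_mem' := fun y hy => by simpa using hy
  mul_mem' := fun ha hb y hy => by simpa using ha _ (hb y hy)
  inv_mem' := fun {g} h y hy => by
    obtain ⟨x, hx, rfl⟩ := (eq_of_le_of_card_ge (map_le_iff_le_comap.2 h : K.map (θ g).toMonoidHom ≤ K)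
      (card_map_of_injective (θ g).injective).ge).ge hy
    simpa using hx

theorem AC.ce (h : AC φ) : CE φ := fun N Z L hN hL nL nZ LZ hZ x hx h1 p hp p2 R hR h2 => by
  haveI := Fact.mk hp
  obtain ⟨Γ, _, _, θ, a, d⟩ := h.dt
  have sy : ∀ {P : Subgroup G} (α : A), IsSylowIn p P N → ∃ n ∈ N, ∀ y ∈ P, n * φ α y * n⁻¹ ∈ P :=
    fun {P} α hP => by
    have k := hP.map (φ α).toMonoidHom
    rw [hN.map_eq] at k
    obtain ⟨n, hn, e⟩ := k.conj hP
    exact ⟨n, hn, fun y hy => e ▸ cj_mem n (mem_map_of_mem _ hy)⟩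
  obtain ⟨P, hP⟩ := exists_isSylowIn p N
  obtain ⟨α, k⟩ := d.adj a
  obtain ⟨g, hg, e1⟩ := h1 α
  obtain ⟨n, hn, e2⟩ := sy α hP
  obtain ⟨b, b1, b2⟩ := k g
  obtain ⟨b', b1', b2'⟩ := k n
  obtain ⟨γ, hγ, e3⟩ := ((d.ant.cong b2').count (d.sp hN) ⟨α, n, hn, b1'⟩).2 (b'⁻¹ * b)
    (by simpa [mul_assoc] using mul_mem (inv_mem b2') b2) (mul_mem (inv_mem ⟨α, n, hn, b1'⟩) ⟨α, g, hg, b1⟩)
  rw [mul_inv_cancel_left] at e3
  have hP' := hP.map (θ γ).toMonoidHom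
  rw [show N.map (θ γ).toMonoidHom = N from (G1.iv (θ := θ) hN hN le_normalizer).map_eq ⟨γ, hγ⟩] at hP'
  generalize hQ : P.map (θ γ).toMonoidHom = Q at hP'
  have st : ∀ (m : Γ) (β : A) (n : G), n ∈ N → (∀ y, θ m y = n * φ β y * n⁻¹) →
      (∀ y ∈ Q, θ m y ∈ Q) → m ∈ Sb θ (Q ⊔ L) := fun m β n hn e k =>
    sup_le (a := Q) (b := L) (c := (Q ⊔ L).comap (θ m).toMonoidHom) (fun y hy => mem_sup_left (k y hy))
      fun y hy => mem_sup_right ((e y).symm ▸ conj_mem_of_mem_normalizer (nL hn) (hL β y hy))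
  have h3 := st b α g hg b1 (by
    rw [← hQ]
    rintro _ ⟨y, hy, rfl⟩
    exact ⟨_, e2 y hy, by simp [← e3, b1']⟩)
  obtain ⟨c, -, e4⟩ := d.inn x⁻¹
  have e5 : ∀ y, θ c⁻¹ y = x * y * x⁻¹ := fun y => (θ c).injective (by
    rw [← MulAut.mul_apply, ← map_mul, mul_inv_cancel, map_one, e4, MulAut.one_apply]; group)
  have h4 := (d.ant.cong b2).uc (c := c) (fun g => by
    obtain ⟨β, k⟩ := d.adj g
    obtain ⟨n, hn, e⟩ := sy β hP'
    obtain ⟨m, m1, m2⟩ := k n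
    exact ⟨m, st m β n hn m1 fun y hy => (m1 y).symm ▸ e y hy, m2⟩) h3 fun y hy => by
      rw [← b1] at e1
      have := conj_mem_of_mem_normalizer (le_normalizer (mem_sup_right e1)) (h3 y hy)
      rw [map_mul, map_mul, MulAut.mul_apply, MulAut.mul_apply, e4, e5]
      simpa [mul_assoc] using this
  obtain ⟨m, hm, e⟩ := hP'.exists_le_cj h2 hR
  refine ⟨m, hm, fun k hk => ?_⟩
  obtain ⟨y, hy, rfl⟩ := mem_cj'.1 (e hk)
  rw [← conjugate_commutatorElement]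
  refine conj_mem_of_mem_normalizer (nL hm) ?_
  obtain ⟨w, hw, l, hl, e6⟩ := (mem_sup_of_le_normalizer_right (hP'.le.trans nL)).1
    (mul_mem (e5 y ▸ inv_mem h4 y (mem_sup_left hy)) (inv_mem (mem_sup_left hy)))
  have h5 : w * l ∈ Z := by
    rw [← e6]
    simpa [mul_assoc] using mul_mem hx (conj_mem_of_mem_normalizer (nZ (hP'.le hy)) (inv_mem hx))
  haveI : Fact (Nat.Prime 2) := ⟨Nat.prime_two⟩
  rw [commutatorElement_def, e6, disjoint_def.1 (IsPGroup.disjoint_of_ne p 2 p2 Q Z hP'.isP hZ) hw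
    ((mul_mem_cancel_right (LZ hl)).1 h5), one_mul]
  exact hl

theorem AC.sg (h : AC φ) {S : Subgroup G} (inn : ∀ s ∈ S, ∃ a, φ a = MulAut.conj s) : SG φ S :=
  fun y hy y2 u e => by
  classical
  obtain ⟨Γ, _, _, θ, a, d⟩ := h.dt
  have hb : Iv φ (⊥ : Subgroup G) := fun a x hx => by rw [mem_bot.1 hx, map_one]; exact one_mem _
  obtain ⟨c, hc, e1⟩ := d.inn y
  obtain ⟨β, e2⟩ := inn y hy
  have hΩ : ∀ (g : G1 φ θ ⊥ hb) (x : G), (∃ a, φ a u = (θ g).toEquiv x) ↔ ∃ a, φ a u = x := by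
    rintro ⟨g, α, n, hn, e⟩ x
    obtain rfl := mem_bot.1 hn
    refine ⟨fun ⟨a, k⟩ => ⟨α⁻¹ * a, ?_⟩, fun ⟨a, k⟩ => ⟨α * a, ?_⟩⟩
    · rw [map_mul, MulAut.mul_apply, k]
      simp [e]
    · rw [map_mul, MulAut.mul_apply, k]
      simp [e]
  let π : G1 φ θ ⊥ hb →* Equiv.Perm {v // ∃ a, φ a u = v} :=
    MonoidHom.mk' (fun g => Equiv.Perm.subtypePerm (θ g).toEquiv (hΩ g)) fun g k =>
      Equiv.ext fun x => Subtype.ext (by simp [-Equiv.Perm.subtypePerm_mul])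
  have := Fintype.ofFinite {v // ∃ a, φ a u = v}
  have h1 := Abelianization.commutator_subset_ker (Equiv.Perm.sign.comp π)
    (d.ant.der (d.sp hb) hc ⟨β, 1, one_mem _, fun x => by simp [e1, e2]⟩)
  have h2 : ∀ x, (π ⟨c, β, 1, one_mem _, fun x => by simp [e1, e2]⟩ x : G) = y * x * y⁻¹ := fun x => e1 x
  rw [MonoidHom.mem_ker, MonoidHom.comp_apply] at h1
  generalize π _ = σ at h1 h2
  rw [Equiv.Perm.sign_of_pow_two_eq_one (Equiv.ext fun x => Subtype.ext (by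
      rw [pow_two, Equiv.Perm.mul_apply, h2, h2]
      calc _ = (y * y) * x * (y * y)⁻¹ := by group
        _ = _ := by simp [y2])), Equiv.Perm.card_fixedPoints,
    Nat.sub_sub_self σ.sum_cycleType_le, Equiv.Perm.sum_cycleType] at h1
  have h3 : {v | (∃ a, φ a u = v) ∧ ¬ Commute y v} = Subtype.val '' (σ.support : Set {v // ∃ a, φ a u = v}) := by
    ext v
    simp only [Set.mem_setOf_eq, Set.mem_image, Finset.mem_coe, Equiv.Perm.mem_support, ne_eq,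
      Subtype.ext_iff, h2, mul_inv_eq_iff_eq_mul]
    exact ⟨fun ⟨k1, k2⟩ => ⟨⟨v, k1⟩, k2, rfl⟩, by rintro ⟨x, k, rfl⟩; exact ⟨x.2, k⟩⟩
  rw [h3, Set.ncard_image_of_injective _ Subtype.val_injective, Set.ncard_coe_finset] at e
  rw [Odd.neg_one_pow (Nat.odd_iff.2 (by omega))] at h1
  exact absurd h1 (by decide)

end H2.AC
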